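import Groth.Prelude.Def_GLin
import Mathlib.RingTheory.Spectrum.Prime.Topology
import Mathlib.RingTheory.IntegralClosure.IsIntegralClosure.Basic
import Mathlib.RingTheory.Finiteness.Basic

/-! # Diagonal actions of the multiplicative group -/

set_option linter.all false

universe u

open LaurentPolynomial TensorProduct

noncomputable section

namespace Groth.Agent.GmWeights

variable {k : Type u} [Field k] {ι : Type u} [HopfRep.Comod k k[T;T⁻¹] (MvPolynomial ι k)]
  [GLin.IsCoactAlg k k[T;T⁻¹] (MvPolynomial ι k)] (r : ι → ℤ)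
  (hr : ∀ i : ι, HopfRep.Comod.coact (k := k) (A := k[T;T⁻¹]) (MvPolynomial.X i : MvPolynomial ι k) =
      (MvPolynomial.X i : MvPolynomial ι k) ⊗ₜ[k] (T (r i) : k[T;T⁻¹]))

/-- the weight of a monomial -/
def wt (s : ι →₀ ℕ) : ℤ := s.sum fun i n => (n : ℤ) * r i

include hr in
theorem coact_monomial (s : ι →₀ ℕ) (c : k) :
    HopfRep.Comod.coact (k := k) (A := k[T;T⁻¹]) (MvPolynomial.monomial s c) =
      MvPolynomial.monomial s c ⊗ₜ[k] (T (wt r s) : k[T;T⁻¹]) := by
  classical
  induction s using Finsupp.induction generalizing c with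
  | zero =>
    rw [show MvPolynomial.monomial (0 : ι →₀ ℕ) c = c • (1 : MvPolynomial ι k) by
      rw [MvPolynomial.smul_eq_C_mul, mul_one, MvPolynomial.C_apply]]
    rw [map_smul, ← GLin.coactAlgHom_apply, map_one, Algebra.TensorProduct.one_def, TensorProduct.smul_tmul']
    simp [wt]
  | single_add i n s hi hn ih =>
    have hw : wt r (Finsupp.single i n + s) = (n : ℤ) * r i + wt r s := by
      rw [wt, wt, Finsupp.sum_add_index' (fun a => by simp) (fun a b c => by push_cast; ring),
        Finsupp.sum_single_index (by simp)]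
    rw [add_comm (Finsupp.single i n) s, MvPolynomial.monomial_add_single, ← GLin.coactAlgHom_apply, map_mul,
      map_pow, GLin.coactAlgHom_apply, GLin.coactAlgHom_apply, ih c, hr, Algebra.TensorProduct.tmul_pow,
      Algebra.TensorProduct.tmul_mul_tmul, T_pow, ← T_add, add_comm s, hw, add_comm (wt r s)]

include hr in
theorem isInvariant_iff (F : MvPolynomial ι k) :
    F ∈ GLin.invariants k k[T;T⁻¹] (MvPolynomial ι k) ↔ ∀ s ∈ F.support, wt r s = 0 := by
  classical
  rw [GLin.mem_invariants_iff]
  constructor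
  · intro h s hs
    by_contra hne
    let L0 : k[T;T⁻¹] →ₗ[k] k := (Finsupp.lapply (0 : ℤ)).comp (AddMonoidAlgebra.coeffLinearEquiv k).toLinearMap
    have hT : ∀ n : ℤ, L0 (T n) = if n = 0 then 1 else 0 := fun n => by
      show (AddMonoidAlgebra.coeff (AddMonoidAlgebra.single n (1 : k))) 0 = _
      rw [AddMonoidAlgebra.coeff_single, Finsupp.single_apply]
    let L : MvPolynomial ι k ⊗[k] k[T;T⁻¹] →ₗ[k] k :=
      (LinearMap.mul' k k).comp (TensorProduct.map (MvPolynomial.lcoeff k s) L0)
    have e := congrArg L h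
    have h1 : ∀ G : MvPolynomial ι k, L (HopfRep.Comod.coact (k := k) (A := k[T;T⁻¹]) G) = 0 := by
      intro G
      induction G using MvPolynomial.induction_on' with
      | monomial t c =>
        rw [coact_monomial r hr]
        rcases eq_or_ne t s with rfl | ht
        · simp only [L, LinearMap.comp_apply, TensorProduct.map_tmul, LinearMap.mul'_apply, hT, if_neg hne, mul_zero]
        · simp [L, MvPolynomial.coeff_monomial, ht]
      | add p q hp hq => simp only [map_add, hp, hq, add_zero]
    rw [h1] at e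
    have h2 : L (F ⊗ₜ[k] (1 : k[T;T⁻¹])) = F.coeff s := by
      rw [← T_zero]
      simp only [L, LinearMap.comp_apply, TensorProduct.map_tmul, LinearMap.mul'_apply, hT, if_true, mul_one]
      rfl
    rw [h2] at e
    exact (MvPolynomial.mem_support_iff.1 hs) e.symm
  · intro h
    conv_lhs => rw [F.as_sum]
    conv_rhs => rw [F.as_sum]
    rw [map_sum, TensorProduct.sum_tmul]
    refine Finset.sum_congr rfl fun s hs => ?_
    rw [coact_monomial r hr, h s hs, T_zero]

include hr in
theorem isSemistableVec_iff [Fintype ι] (v : ι → k) :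
    GLin.IsSemistableVec k k[T;T⁻¹] v ↔ ∃ i j : ι, v i ≠ 0 ∧ v j ≠ 0 ∧ r i ≤ 0 ∧ 0 ≤ r j := by
  classical
  unfold GLin.IsSemistableVec GLin.IsNullform
  push Not
  constructor
  · rintro ⟨F, hF, d, hd, hhom, hv⟩
    rw [MvPolynomial.eval_eq] at hv
    obtain ⟨s, hs, hsv⟩ := Finset.exists_ne_zero_of_sum_ne_zero hv
    have hw := (isInvariant_iff r hr F).1 hF s hs
    have hsupp : ∀ i ∈ s.support, v i ≠ 0 := fun i hi e => hsv (by
      rw [Finset.prod_eq_zero hi (by rw [e, zero_pow (Finsupp.mem_support_iff.1 hi)]), mul_zero])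
    have hne : s.support.Nonempty := by
      rw [Finset.nonempty_iff_ne_empty]
      intro e
      have := hhom (MvPolynomial.mem_support_iff.1 hs)
      rw [Finsupp.support_eq_empty.1 e] at this
      simp at this
      omega
    by_contra hno
    push Not at hno
    have key : (∀ i ∈ s.support, 0 < (s i : ℤ) * r i) ∨ (∀ i ∈ s.support, (s i : ℤ) * r i < 0) := by
      by_cases hall : ∀ i ∈ s.support, 0 < r i
      · exact Or.inl fun i hi => mul_pos (by exact_mod_cast Nat.pos_of_ne_zero (Finsupp.mem_support_iff.1 hi)) (hall i hi)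
      · push Not at hall
        obtain ⟨i₀, hi₀, hle⟩ := hall
        exact Or.inr fun i hi => mul_neg_of_pos_of_neg
          (by exact_mod_cast Nat.pos_of_ne_zero (Finsupp.mem_support_iff.1 hi))
          (hno i₀ i (hsupp i₀ hi₀) (hsupp i hi) hle)
    rw [wt, Finsupp.sum] at hw
    rcases key with h | h
    · exact absurd hw (Finset.sum_pos h hne).ne'
    · exact absurd hw (Finset.sum_neg h hne).ne
  · rintro ⟨i, j, hi, hj, hri, hrj⟩
    obtain ⟨s, hsw, hsd, hsv⟩ : ∃ s : ι →₀ ℕ, wt r s = 0 ∧ 0 < s.degree ∧ ∀ l ∈ s.support, v l ≠ 0 := by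
      rcases eq_or_ne (r i) 0 with h0 | h0
      · exact ⟨Finsupp.single i 1, by simp [wt, h0], by simp, fun l hl => by
          rw [Finset.mem_singleton.1 (Finsupp.support_single_subset hl)]; exact hi⟩
      refine ⟨Finsupp.single i (r j).toNat + Finsupp.single j (-r i).toNat, ?_, ?_, ?_⟩
      · rw [wt, Finsupp.sum_add_index' (fun a => by simp) (fun a b c => by push_cast; ring),
          Finsupp.sum_single_index (by simp), Finsupp.sum_single_index (by simp), Int.toNat_of_nonneg hrj,
          Int.toNat_of_nonneg (by omega)]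
        ring
      · simp only [map_add, Finsupp.degree_single]
        omega
      · intro l hl
        rcases Finset.mem_union.1 (Finsupp.support_add hl) with h | h <;>
          rw [Finset.mem_singleton.1 (Finsupp.support_single_subset h)] <;> assumption
    refine ⟨MvPolynomial.monomial s 1, (isInvariant_iff r hr _).2 fun t ht => ?_, s.degree, hsd,
      MvPolynomial.isHomogeneous_monomial _ rfl, ?_⟩
    · rw [Finset.mem_singleton.1 (MvPolynomial.support_monomial_subset ht)]; exact hsw
    · rw [MvPolynomial.eval_monomial, one_mul]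
      exact Finset.prod_ne_zero_iff.2 fun l hl => pow_ne_zero _ (hsv l hl)

include hr in
theorem orbit_X (v : ι → k) (i : ι) :
    GLin.orbitHom k k[T;T⁻¹] (GLin.vecPt k ι v) (MvPolynomial.X i) = v i • (T (r i) : k[T;T⁻¹]) := by
  show Algebra.TensorProduct.lid k _ (Algebra.TensorProduct.map (GLin.vecPt k ι v) (AlgHom.id k _)
    (GLin.coactAlgHom k k[T;T⁻¹] (MvPolynomial ι k) (MvPolynomial.X i))) = _
  rw [GLin.coactAlgHom_apply, hr, Algebra.TensorProduct.map_tmul, Algebra.TensorProduct.lid_tmul]
  simp [GLin.vecPt]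

theorem not_finite_laurent : ¬ Module.Finite k k[T;T⁻¹] := by
  intro h
  haveI : Module.Finite k (ℤ →₀ k) := Module.Finite.equiv (AddMonoidAlgebra.coeffLinearEquiv k)
  have : Finite ℤ := Module.Finite.finite_basis (Finsupp.basisSingleOne (R := k) (ι := ℤ))
  exact not_finite ℤ

include hr in
theorem stable_of (v : ι → k) (i j : ι) (hi : v i ≠ 0) (hj : v j ≠ 0) (hri : r i < 0) (hrj : 0 < r j) :
    GLin.IsStableVec k k[T;T⁻¹] v := by
  let φ := GLin.orbitHom k k[T;T⁻¹] (GLin.vecPt k ι v)
  have hφ : ∀ l, v l ≠ 0 → φ (MvPolynomial.C (v l)⁻¹ * MvPolynomial.X l) = T (r l) := by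
    intro l hl
    rw [map_mul, orbit_X r hr, ← MvPolynomial.algebraMap_eq, AlgHom.commutes, ← Algebra.smul_def, smul_smul,
      inv_mul_cancel₀ hl, one_smul]
  obtain ⟨a, ha⟩ : ∃ a : ℕ, (a : ℤ) = r j := ⟨(r j).toNat, Int.toNat_of_nonneg hrj.le⟩
  obtain ⟨b, hb⟩ : ∃ b : ℕ, (b : ℤ) = -r i := ⟨(-r i).toNat, Int.toNat_of_nonneg (by omega)⟩
  refine ⟨?_, ?_⟩
  · have hint : φ.toRingHom.IsIntegral := by
      letI := φ.toRingHom.toAlgebra
      have hT : ∀ (n : ℤ) (c : ℕ) (e : ℤ) (y : MvPolynomial ι k), 0 < c → n * c = e → φ y = T e →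
          IsIntegral (MvPolynomial ι k) (T n : k[T;T⁻¹]) := by
        intro n c e y hc he hy
        refine IsIntegral.of_pow hc ?_
        rw [T_pow, mul_comm, he, ← hy]
        exact isIntegral_algebraMap
      have h1 : IsIntegral (MvPolynomial ι k) (T 1 : k[T;T⁻¹]) :=
        hT 1 a (r j) _ (by omega) (by omega) (hφ j hj)
      have h2 : IsIntegral (MvPolynomial ι k) (T (-1) : k[T;T⁻¹]) :=
        hT (-1) b (r i) _ (by omega) (by omega) (hφ i hi)
      intro p
      change IsIntegral (MvPolynomial ι k) p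
      induction p using LaurentPolynomial.induction_on' with
      | add p q hp hq => exact hp.add hq
      | C_mul_T n c =>
        refine IsIntegral.mul ?_ ?_
        · rw [show (C c : k[T;T⁻¹]) = φ (MvPolynomial.C c) by
            rw [← MvPolynomial.algebraMap_eq, AlgHom.commutes]; rfl]
          exact isIntegral_algebraMap
        · rcases Int.eq_nat_or_neg n with ⟨m, rfl | rfl⟩
          · simpa [T_pow] using h1.pow m
          · simpa [T_pow] using h2.pow m
    exact (PrimeSpectrum.isClosedMap_comap_of_isIntegral _ hint).isClosed_range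
  · set I := GLin.stabIdeal k k[T;T⁻¹] (GLin.vecPt k ι v) with hI
    have hmem : ∀ l, v l ≠ 0 → (T (r l) : k[T;T⁻¹]) - 1 ∈ I := by
      intro l hl
      have : φ (MvPolynomial.C (v l)⁻¹ * MvPolynomial.X l - 1) ∈ I :=
        Ideal.mem_map_of_mem _ (by simp [RingHom.mem_ker, GLin.vecPt, hl])
      rwa [map_sub, map_one, hφ l hl] at this
    let q := Ideal.Quotient.mkₐ k I
    have hq : ∀ l, v l ≠ 0 → q (T (r l)) = 1 := fun l hl => by
      rw [← sub_eq_zero, ← map_one q, ← map_sub]
      exact Ideal.Quotient.eq_zero_iff_mem.2 (hmem l hl)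
    have hInt : ∀ (n : ℤ) (c : ℕ) (e : ℤ), 0 < c → n * c = e → q (T e) = 1 →
        IsIntegral k (q (T n)) := by
      intro n c e hc he hy
      refine IsIntegral.of_pow hc ?_
      rw [← map_pow, T_pow, mul_comm, he, hy]
      exact isIntegral_one
    have h1 := hInt 1 a (r j) (by omega) (by omega) (hq j hj)
    have h2 := hInt (-1) b (r i) (by omega) (by omega) (hq i hi)
    haveI : Algebra.IsIntegral k (k[T;T⁻¹] ⧸ I) := ⟨fun x => by
      obtain ⟨p, rfl⟩ := Ideal.Quotient.mkₐ_surjective k I x
      induction p using LaurentPolynomial.induction_on' with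
      | add p p' hp hp' => rw [map_add]; exact hp.add hp'
      | C_mul_T n c =>
        rw [map_mul]
        refine IsIntegral.mul ?_ ?_
        · exact isIntegral_algebraMap.map q
        · rcases Int.eq_nat_or_neg n with ⟨m, rfl | rfl⟩
          · simpa [← map_pow, T_pow, q] using h1.pow m
          · simpa [← map_pow, T_pow, q] using h2.pow m⟩
    haveI : Algebra.FiniteType k (k[T;T⁻¹] ⧸ I) :=
      Algebra.FiniteType.trans (S := k[T;T⁻¹]) inferInstance inferInstance
    exact Algebra.IsIntegral.finite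

include hr in
theorem not_stable_of_same_sign (v : ι → k) (ε : ℤ) (hε : ε = 1 ∨ ε = -1)
    (h : ∀ l, v l ≠ 0 → 0 ≤ ε * r l) : ¬ GLin.IsStableVec k k[T;T⁻¹] v := by
  classical
  rintro ⟨hclosed, hfin⟩
  let φ := GLin.orbitHom k k[T;T⁻¹] (GLin.vecPt k ι v)
  by_cases hzero : ∀ l, v l ≠ 0 → r l = 0
  · have hconst : φ = (Algebra.ofId k k[T;T⁻¹]).comp (GLin.vecPt k ι v) := MvPolynomial.algHom_ext fun l => by
      rw [orbit_X r hr]
      rcases eq_or_ne (v l) 0 with e | e
      · simp [GLin.vecPt, e]
      · simp [GLin.vecPt, hzero l e, Algebra.algebraMap_eq_smul_one]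
    have hI : GLin.stabIdeal k k[T;T⁻¹] (GLin.vecPt k ι v) = ⊥ := by
      rw [GLin.stabIdeal, Ideal.map_eq_bot_iff_le_ker]
      intro f hf
      rw [RingHom.mem_ker] at hf ⊢
      have e := AlgHom.congr_fun hconst f
      simp only [AlgHom.comp_apply, hf, map_zero] at e
      exact e
    rw [GLin.HasFiniteStab, hI] at hfin
    exact not_finite_laurent (k := k) (Module.Finite.equiv (AlgEquiv.quotientBot k k[T;T⁻¹]).toLinearEquiv)
  push Not at hzero
  obtain ⟨l₀, hl₀, hrl₀⟩ := hzero
  -- the orbit map factors through polynomials in `T ^ ε`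
  let y : MvPolynomial ι k →ₐ[k] k := MvPolynomial.aeval fun l => if r l = 0 then v l else 0
  let ψ : MvPolynomial ι k →ₐ[k] Polynomial k :=
    MvPolynomial.aeval fun l => Polynomial.C (v l) * Polynomial.X ^ (ε * r l).toNat
  let em : Polynomial k →ₐ[k] k[T;T⁻¹] := Polynomial.aeval (T ε)
  have hfac : φ = em.comp ψ := MvPolynomial.algHom_ext fun l => by
    rw [orbit_X r hr, AlgHom.comp_apply, MvPolynomial.aeval_X, map_mul, map_pow, Polynomial.aeval_C,
      Polynomial.aeval_X, T_pow, ← Algebra.smul_def]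
    rcases eq_or_ne (v l) 0 with e | e
    · simp [e]
    congr 2
    rw [Int.toNat_of_nonneg (h l e), mul_comm (ε * r l) ε, ← mul_assoc]
    rcases hε with rfl | rfl <;> simp
  have hy : y = (Polynomial.aeval (0 : k)).comp ψ := MvPolynomial.algHom_ext fun l => by
    simp only [y, ψ, MvPolynomial.aeval_X, AlgHom.comp_apply, map_mul, map_pow, Polynomial.aeval_C,
      Polynomial.aeval_X, Algebra.algebraMap_self, RingHom.id_apply]
    rcases eq_or_ne (r l) 0 with e | e
    · simp [e]
    · rw [if_neg e]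
      rcases eq_or_ne (v l) 0 with e' | e'
      · simp [e']
      · have hne : ε * r l ≠ 0 := mul_ne_zero (by rcases hε with rfl | rfl <;> norm_num) e
        have hnn := h l e'
        rw [zero_pow (by omega), mul_zero]
  have hem : Function.Injective em := by
    intro p q hpq
    rw [← sub_eq_zero] at hpq ⊢
    rw [← map_sub] at hpq
    ext n
    have e := congrArg (fun z : k[T;T⁻¹] => z.coeff (ε * n)) hpq
    generalize p - q = w at e ⊢
    have hc : ∀ w : Polynomial k, (em w).coeff (ε * n) = w.coeff n := by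
      intro w
      induction w using Polynomial.induction_on' with
      | add p q hp hq => simp [map_add, AddMonoidAlgebra.coeff_add, hp, hq]
      | monomial m c =>
        rw [show em (Polynomial.monomial m c) = c • (T (m * ε) : k[T;T⁻¹]) by
          simp [em, Polynomial.aeval_monomial, Algebra.smul_def, T_pow]]
        rw [Polynomial.coeff_monomial, AddMonoidAlgebra.coeff_smul, Finsupp.smul_apply, T,
          AddMonoidAlgebra.coeff_single, Finsupp.single_apply]
        have : (m : ℤ) * ε = ε * n ↔ m = n := by rcases hε with rfl | rfl <;> omega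
        simp [this]
    rw [hc] at e
    simpa using e
  have hker : RingHom.ker φ ≤ RingHom.ker y := by
    intro f hf
    rw [RingHom.mem_ker, hfac, AlgHom.comp_apply, ← map_zero em] at hf
    rw [RingHom.mem_ker, hy, AlgHom.comp_apply, hem hf, map_zero]
  let P : PrimeSpectrum (MvPolynomial ι k) := ⟨RingHom.ker y, RingHom.ker_isPrime _⟩
  have hPmem : P ∈ Set.range (PrimeSpectrum.comap φ.toRingHom) := by
    rw [← hclosed.closure_eq, PrimeSpectrum.closure_range_comap]
    exact hker
  obtain ⟨Q, hQ⟩ := hPmem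
  have hXl : (MvPolynomial.X l₀ : MvPolynomial ι k) ∈ P.asIdeal := by
    show y (MvPolynomial.X l₀) = 0
    simp [y, hrl₀]
  rw [← hQ] at hXl
  have hu : IsUnit (φ (MvPolynomial.X l₀)) := by
    rw [orbit_X r hr, Algebra.smul_def]
    exact ((IsUnit.mk0 _ hl₀).map _).mul (isUnit_T _)
  exact Q.isPrime.ne_top (Ideal.eq_top_of_isUnit_mem _ hXl hu)

include hr in
theorem isStableVec_iff (v : ι → k) :
    GLin.IsStableVec k k[T;T⁻¹] v ↔ ∃ i j : ι, v i ≠ 0 ∧ v j ≠ 0 ∧ r i < 0 ∧ 0 < r j := by
  refine ⟨fun h => ?_, fun ⟨i, j, hi, hj, hri, hrj⟩ => stable_of r hr v i j hi hj hri hrj⟩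
  by_contra hno
  push Not at hno
  by_cases hpos : ∀ l, v l ≠ 0 → 0 ≤ r l
  · exact not_stable_of_same_sign r hr v 1 (Or.inl rfl) (fun l hl => by simpa using hpos l hl) h
  · push Not at hpos
    obtain ⟨i, hi, hri⟩ := hpos
    refine not_stable_of_same_sign r hr v (-1) (Or.inr rfl) (fun l hl => ?_) h
    have := hno i l hi hl hri
    omega

end Groth.Agent.GmWeights
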